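import Groth.Agent.Lib.PropSuppH7.Basic
import Groth.Agent.Lib.PushNatH7.Basic

/-!
# Formal functions along closed immersions
-/

universe u

open CategoryTheory Limits AlgebraicGeometry Opposite

namespace Groth.Agent.PropSuppH7

variable {A : Type u} [CommRing A] {X Z : Scheme.{u}} [X.Over (Spec (CommRingCat.of A))]
  [Z.Over (Spec (CommRingCat.of A))]

/-- Bijectivity onto the limit transported along level-wise equivalences. -/
theorem bijective_toHHlim_of_equiv (I : Ideal A) (M : X.Modules) (N : Z.Modules) (p : ℕ)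
    (a : Coh.HH X M p ≃+ Coh.HH Z N p) (b : ∀ n, Formal.HHmodPow I M p n ≃+ Formal.HHmodPow I N p n)
    (hπ : ∀ n x, b n (Formal.toHHmodPow I M p n x) = Formal.toHHmodPow I N p n (a x))
    (ht : ∀ n x, b n (Formal.HHmodPowTrans I M p n x) = Formal.HHmodPowTrans I N p n (b (n + 1) x))
    (h : Function.Bijective (Formal.toHHlim I N p)) : Function.Bijective (Formal.toHHlim I M p) := by
  have he : ∀ x n, (Formal.toHHlim I N p (a x)).1 n = b n ((Formal.toHHlim I M p x).1 n) :=
    fun x n => (hπ n x).symm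
  refine ⟨fun x y hxy => a.injective (h.1 (Subtype.ext (funext fun n => ?_))), fun z => ?_⟩
  · rw [he, he, hxy]
  · obtain ⟨w, hw⟩ := h.2 ⟨fun n => b n (z.1 n), fun n => (ht n _).symm.trans (congrArg (b n) (z.2 n))⟩
    refine ⟨a.symm w, Subtype.ext (funext fun n => (b n).injective ((he _ n).symm.trans ?_))⟩
    rw [a.apply_symm_apply, hw]

/-- The equivalence on cohomology induced by an isomorphism. -/
noncomputable def hhIso {Y : Scheme.{u}} {M N : Y.Modules} (e : M ≅ N) (p : ℕ) : Coh.HH Y M p ≃+ Coh.HH Y N p :=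
  AddMonoidHom.toAddEquiv (Sheaf.H.map ((SheafOfModules.toSheaf _).map e.hom) p)
    (Sheaf.H.map ((SheafOfModules.toSheaf _).map e.inv) p)
    (AddMonoidHom.ext fun x => (Formal.HHmap_comp e.hom e.inv p x).trans ((congrArg (fun φ => Sheaf.H.map ((SheafOfModules.toSheaf _).map φ) p x) e.hom_inv_id).trans (by
      erw [CategoryTheory.Functor.map_id, Sheaf.H.map_id_apply]; rfl)))
    (AddMonoidHom.ext fun x => (Formal.HHmap_comp e.inv e.hom p x).trans ((congrArg (fun φ => Sheaf.H.map ((SheafOfModules.toSheaf _).map φ) p x) e.inv_hom_id).trans (by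
      erw [CategoryTheory.Functor.map_id, Sheaf.H.map_id_apply]; rfl)))

/-- The comparison for the direct image follows from the one for the module. -/
theorem bijective_toHHlim_push (i : Z ⟶ X) [IsClosedImmersion i] [IsLocallyNoetherian X]
    (hi : i ≫ (X ↘ Spec (CommRingCat.of A)) = Z ↘ Spec (CommRingCat.of A)) (I : Ideal A)
    {N : Z.Modules} (hN : Coh.IsCoh N) {M : X.Modules} (e : M ≅ (Scheme.Modules.pushforward i).obj N) (p : ℕ)
    (h : Function.Bijective (Formal.toHHlim I N p)) : Function.Bijective (Formal.toHHlim I M p) := by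
  haveI : IsLocallyNoetherian Z := LocallyOfFiniteType.isLocallyNoetherian i
  let P := Scheme.Modules.pushforward i
  let G := SheafOfModules.toSheaf X.ringCatSheaf
  obtain ⟨T, hT⟩ := PushNatH7.exists_HH_push_natural i p
  choose θ hθ using fun n => exists_modPow_push_iso i hi I (n + 1) hN
  have hq : ∀ n, Coh.IsQCoh (Formal.modPow I n N) := fun n => (Algz27C.isCoh_modPow (I := I) n hN).1
  let ψ : ∀ n, Formal.modPow I (n + 1) M ⟶ P.obj (Formal.modPow I (n + 1) N) := fun n =>
    (Algz27C.modPowIso I (n + 1) e).hom ≫ (θ n).hom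
  have hψ : ∀ n, Formal.modPowπ I (n + 1) M ≫ ψ n = e.hom ≫ P.map (Formal.modPowπ I (n + 1) N) := fun n =>
    (Category.assoc _ _ _).symm.trans ((congrArg (· ≫ (θ n).hom) (Algz27C.modPowπ_map I (n + 1) e.hom)).trans
      ((Category.assoc _ _ _).trans (congrArg (e.hom ≫ ·) (hθ n))))
  have hψt : ∀ n, Formal.modPowTrans I (n + 1) M ≫ ψ n = ψ (n + 1) ≫ P.map (Formal.modPowTrans I (n + 1) N) := by
    intro n
    rw [← cancel_epi (Formal.modPowπ I (n + 1 + 1) M)]
    refine ((Category.assoc _ _ _).symm.trans (congrArg (· ≫ ψ n) (Formal.modPowπ_trans I (n + 1) M))).trans ?_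
    refine (hψ n).trans ?_
    refine Eq.trans ?_ ((Category.assoc _ _ _).symm.trans rfl).symm
    rw [hψ (n + 1), Category.assoc, ← P.map_comp, Formal.modPowπ_trans]
  let a : Coh.HH X M p ≃+ Coh.HH Z N p := (hhIso e p).trans (T N hN.1)
  let b : ∀ n, Formal.HHmodPow I M p n ≃+ Formal.HHmodPow I N p n := fun n =>
    (hhIso (Algz27C.modPowIso I (n + 1) e ≪≫ θ n) p).trans (T _ (hq (n + 1)))
  refine bijective_toHHlim_of_equiv I M N p a b (fun n x => ?_) (fun n x => ?_) h
  · change T _ _ (Sheaf.H.map (G.map (ψ n)) p (Sheaf.H.map (G.map (Formal.modPowπ I (n + 1) M)) p x)) =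
      Sheaf.H.map _ p (T _ _ (Sheaf.H.map (G.map e.hom) p x))
    refine (congrArg (T _ _) ((Formal.HHmap_comp _ _ p x).trans ((congrArg
      (fun φ => Sheaf.H.map (G.map φ) p x) (hψ n)).trans (Formal.HHmap_comp _ _ p x).symm))).trans ?_
    exact hT _ _ hN.1 _ _ _
  · change T _ _ (Sheaf.H.map (G.map (ψ n)) p (Sheaf.H.map (G.map (Formal.modPowTrans I (n + 1) M)) p x)) =
      Sheaf.H.map _ p (T _ _ (Sheaf.H.map (G.map (ψ (n + 1))) p x))
    refine (congrArg (T _ _) ((Formal.HHmap_comp _ _ p x).trans ((congrArg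
      (fun φ => Sheaf.H.map (G.map φ) p x) (hψt n)).trans (Formal.HHmap_comp _ _ p x).symm))).trans ?_
    exact hT _ _ (hq _) _ _ _

end Groth.Agent.PropSuppH7
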