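import Groth.Agent.Lib.ModM1.Ann
import Groth.Agent.Lib.ModM1.Coh
import Groth.Agent.Lib.CohFound.ClosedImmPush
import Groth.Agent.Lib.CohFound.ProjQuot
import Groth.Agent.Lib.LimH13.SuppProper
import Groth.Agent.Lib.FormalH7.ModSec
import Groth.Agent.Lib.Algz27.Completion27

/-!
# Modules with proper support as direct images from proper closed subschemes
-/

universe u

open CategoryTheory Limits AlgebraicGeometry Opposite

namespace Groth.Agent.PropSuppH7

/-- A finite type quasi-coherent module with support proper over the base is the direct image of a module on a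
closed subscheme proper over the base. -/
theorem exists_model {X S : Scheme.{u}} (f : X ⟶ S) [LocallyOfFiniteType f] {M : X.Modules}
    (hM : Coh.IsQCoh M) (hFT : CohB1.IsFT M) (hs : ClSub.IsProperOver f (CohB1.support M)) :
    ∃ (Z : Scheme.{u}) (i : Z ⟶ X), IsClosedImmersion i ∧ IsProper (i ≫ f) ∧
      Set.range i = CohB1.support M ∧
      ∃ N : Z.Modules, Coh.IsQCoh N ∧ CohB1.IsFT N ∧ Nonempty ((Scheme.Modules.pushforward i).obj N ≅ M) := by
  let J := M1.annSheaf hM hFT
  let i := J.subschemeι
  have hr : Set.range i = CohB1.support M :=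
    (Scheme.IdealSheafData.range_subschemeι J).trans (M1.support_annSheaf hM hFT)
  have hk : ∀ (U : X.affineOpens) (a : Γ(X, U.1)), a ∈ i.ker.ideal U → ∀ s : Γ(M, U.1), a • s = 0 :=
    fun U a ha s => by
      rw [Scheme.IdealSheafData.ker_subschemeι, M1.annSheaf_ideal] at ha
      exact Module.mem_annihilator.1 ha s
  haveI := M1.isIso_unit_of_ker_smul i M hM hk
  exact ⟨J.subscheme, i, inferInstance, LimH13.isProper_of_isProperOver f i hr hs, hr,
    (Scheme.Modules.pullback i).obj M, M1.isQCoh_pullback i hM, M1.isFT_pullback i hFT,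
    ⟨(asIso ((Scheme.Modules.pullbackPushforwardAdjunction i).unit.app M)).symm⟩⟩

variable {A : Type u} [CommRing A] {X Z : Scheme.{u}} [X.Over (Spec (CommRingCat.of A))]
  [Z.Over (Spec (CommRingCat.of A))]

/-- The quotient by a power of the ideal commutes with direct images along closed immersions. -/
theorem exists_modPow_push_iso (i : Z ⟶ X) [IsClosedImmersion i] [IsLocallyNoetherian X]
    (hi : i ≫ (X ↘ Spec (CommRingCat.of A)) = Z ↘ Spec (CommRingCat.of A)) (I : Ideal A) (n : ℕ)
    {N : Z.Modules} (hN : Coh.IsCoh N) :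
    ∃ θ : Formal.modPow I n ((Scheme.Modules.pushforward i).obj N) ≅
        (Scheme.Modules.pushforward i).obj (Formal.modPow I n N),
      Formal.modPowπ I n _ ≫ θ.hom = (Scheme.Modules.pushforward i).map (Formal.modPowπ I n N) := by
  let F := Scheme.Modules.pullback i
  let P := Scheme.Modules.pushforward i
  let adj := Scheme.Modules.pullbackPushforwardAdjunction i
  let π := Formal.modPowπ I n (P.obj N)
  have hG : Coh.IsCoh (P.obj N) := CohFound.isCoh_push_closedImm i hN
  have hQ : Coh.IsCoh (Formal.modPow I n (P.obj N)) := Algz27C.isCoh_modPow (I := I) n hG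
  haveI := CohFound.isIso_counit_closedImm i N hN.1
  have hc : Formal.smulFamily (I ^ n) (P.obj N) ≫ π = 0 := cokernel.condition _
  have hd : IsIso (cokernel.desc _ _ hc) := by
    have h : cokernel.desc _ _ hc = 𝟙 _ :=
      coequalizer.hom_ext ((cokernel.π_desc _ _ hc).trans (Category.comp_id _).symm)
    rw [h]
    exact IsIso.id _
  haveI hu : IsIso (adj.unit.app (Formal.modPow I n (P.obj N))) :=
    M1.isIso_unit_of_ker_smul i _ hQ.1 fun U a ha s => by
      obtain ⟨t, rfl⟩ := FormalH7.app_surjective_of_isQuot hG.1 hQ.1 π hc hd U.2 s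
      rw [← Scheme.Modules.Hom.app_smul, CohFound.ker_smul_push i N U a ha t, map_zero]
  obtain ⟨h₁, h₂⟩ := FormalH7.isQuot_pullback i hi π hc hd
  let c := adj.counit.app N
  have h₃ : Formal.smulFamily (I ^ n) (F.obj (P.obj N)) ≫ c ≫ Formal.modPowπ I n N = 0 :=
    FormalH7.smulFamily_comp_of_killed _ (FormalH7.killedBy_modPow I n N)
  have h₄ : Formal.smulFamily (I ^ n) N ≫ inv c ≫ F.map π = 0 :=
    FormalH7.smulFamily_comp_of_killed _ (FormalH7.killedBy_pullback i hi (FormalH7.killedBy_modPow I n _))
  haveI : IsIso (cokernel.desc _ _ h₁) := h₂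
  haveI : Epi (F.map π) := by
    rw [← cokernel.π_desc _ _ h₁]
    exact epi_comp _ _
  let e : F.obj (Formal.modPow I n (P.obj N)) ⟶ Formal.modPow I n N :=
    inv (cokernel.desc _ _ h₁) ≫ cokernel.desc _ _ h₃
  have he : F.map π ≫ e = c ≫ Formal.modPowπ I n N := by
    refine (congrArg (· ≫ e) (cokernel.π_desc _ _ h₁).symm).trans ?_
    refine (Category.assoc _ _ _).trans ?_
    refine (congrArg (_ ≫ ·) (IsIso.hom_inv_id_assoc _ _)).trans ?_
    exact cokernel.π_desc _ _ _
  let e' : Formal.modPow I n N ⟶ F.obj (Formal.modPow I n (P.obj N)) := cokernel.desc _ _ h₄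
  have he' : Formal.modPowπ I n N ≫ e' = inv c ≫ F.map π := cokernel.π_desc _ _ _
  haveI : IsIso e := ⟨e', by rw [← cancel_epi (F.map π), ← Category.assoc, he, Category.assoc, he',
      IsIso.hom_inv_id_assoc, Category.comp_id],
    by rw [← cancel_epi (Formal.modPowπ I n N), ← Category.assoc, he', Category.assoc, he,
      IsIso.inv_hom_id_assoc, Category.comp_id]⟩
  refine ⟨@asIso _ _ _ _ (adj.unit.app (Formal.modPow I n (P.obj N))) hu ≪≫
    P.mapIso (@asIso _ _ _ _ e inferInstance), ?_⟩
  change π ≫ adj.unit.app _ ≫ P.map e = _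
  refine (Category.assoc _ _ _).symm.trans ((congrArg (· ≫ P.map e) (adj.unit.naturality π)).trans ?_)
  refine (Category.assoc _ _ _).trans ((congrArg (_ ≫ ·) ((P.map_comp _ _).symm.trans
    ((congrArg P.map he).trans (P.map_comp _ _)))).trans ?_)
  exact (Category.assoc _ _ _).symm.trans ((congrArg (· ≫ P.map (Formal.modPowπ I n N))
    (adj.right_triangle_components N)).trans (Category.id_comp _))

end Groth.Agent.PropSuppH7
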